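import Groth.Agent.L28.SHClosed.Base
import Mathlib.AlgebraicGeometry.Morphisms.FiniteType
import Mathlib.AlgebraicGeometry.Morphisms.QuasiCompact
import Mathlib.RingTheory.FiniteType
import Mathlib.RingTheory.TensorProduct.Basic

/-!
# A strict henselization at a point is one at a closed point over a bigger base
-/

set_option autoImplicit false
set_option linter.style.haveILetI false
set_option maxHeartbeats 1600000
set_option backward.isDefEq.respectTransparency.types false
universe u

open CategoryTheory AlgebraicGeometry IsLocalRing TensorProduct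

namespace Groth.Agent.L28.SHClosed

theorem adjoin_image_finset {R B L : Type u} [CommRing R] [CommRing B] [CommRing L] [Algebra R B]
    [IsLocalRing R] [Algebra (ResidueField R) L] (π : B →+* L)
    (hπ : ∀ r : R, π (algebraMap R B r) = algebraMap (ResidueField R) L (residue R r))
    (s : Set B) (hs : Algebra.adjoin R s = ⊤) (b : B) :
    π b ∈ Algebra.adjoin (ResidueField R) (π '' s) := by
  have hb : b ∈ Algebra.adjoin R s := hs ▸ Algebra.mem_top
  induction hb using Algebra.adjoin_induction with
  | mem z hz => exact Algebra.subset_adjoin ⟨z, hz, rfl⟩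
  | algebraMap r => rw [hπ]; exact Subalgebra.algebraMap_mem _ _
  | add a c _ _ ha hc => rw [map_add]; exact add_mem ha hc
  | mul a c _ _ ha hc => rw [map_mul]; exact mul_mem ha hc

/-- The algebraic form. -/
theorem exists_model_alg (R : Type u) [CommRing R] [IsLocalRing R] (B O : Type u) [CommRing B]
    [Algebra R B] [Algebra.FiniteType R B] [CommRing O] [IsLocalRing O] [Algebra B O] [Algebra R O]
    [IsScalarTower R B O] [IsLocalHom (algebraMap R O)] (q : Ideal B) [q.IsPrime]
    [IsLocalization.AtPrime O q]
    (A : Type u) [CommRing A] [IsLocalRing A] [Algebra O A] [IsLocalHom (algebraMap O A)]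
    [hS : Hensel.IsStrictHenselization O A] :
    ∃ (σ : Type u) (_ : Finite σ) (p : Ideal (MvPolynomial σ R)) (_ : p.IsPrime)
      (_ : p = (maximalIdeal R).map MvPolynomial.C)
      (Rh : Type u) (_ : CommRing Rh) (_ : IsLocalRing Rh) (_ : Algebra (Localization.AtPrime p) Rh)
      (_ : IsLocalHom (algebraMap (Localization.AtPrime p) Rh))
      (_ : Hensel.IsStrictHenselization (Localization.AtPrime p) Rh)
      (X' : Scheme.{u}) (f' : X' ⟶ Spec (CommRingCat.of Rh)) (_ : LocallyOfFiniteType f')
      (_ : QuasiCompact f') (x' : X') (_ : IsClosed ({x'} : Set X'))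
      (_ : f'.base x' = ((closedPoint Rh : PrimeSpectrum Rh) : ↥(Spec (CommRingCat.of Rh))))
      (_ : Algebra (X'.presheaf.stalk x') A) (_ : IsLocalHom (algebraMap (X'.presheaf.stalk x') A)),
      Hensel.IsStrictHenselization (X'.presheaf.stalk x') A := by
  haveI : HenselianLocalRing A := hS.henselian
  haveI : IsSepClosed (ResidueField A) := hS.isSepClosure.sep_closed
  -- the transcendence basis
  obtain ⟨s, hs⟩ := Algebra.FiniteType.out (R := R) (A := B)
  let π : B →+* ResidueField O := (residue O).comp (algebraMap B O)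
  have hπ : ∀ r : R, π (algebraMap R B r) =
      algebraMap (ResidueField R) (ResidueField O) (residue R r) := fun r => by
    change residue O (algebraMap B O (algebraMap R B r)) = residue O (algebraMap R O r)
    rw [← IsScalarTower.algebraMap_apply]
  have hfrac : ∀ z : ResidueField O, ∃ b c : B, π c ≠ 0 ∧ z = π b / π c := by
    intro z
    obtain ⟨o, rfl⟩ := residue_surjective z
    obtain ⟨⟨b, c⟩, e⟩ := IsLocalization.surj q.primeCompl o
    dsimp only at e
    have hc : π c ≠ 0 := fun h =>
      (notMem_maximalIdeal.mpr (IsLocalization.map_units O c)) ((residue_eq_zero_iff _).mp h)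
    refine ⟨b, c, hc, ?_⟩
    rw [eq_div_iff hc]
    change residue O o * residue O (algebraMap B O c) = residue O (algebraMap B O b)
    rw [← map_mul, e]
  obtain ⟨n, t, ht⟩ := exists_transcendenceBasis_lift π (s : Set B) s.finite_toSet
    (adjoin_image_finset π hπ _ hs) hfrac
  let σ := ULift.{u} (Fin n)
  let tσ : σ → B := fun i => t i.down
  let xs : σ → O := algebraMap B O ∘ tσ
  have hxs : IsTranscendenceBasis (ResidueField R) (residue O ∘ xs) :=
    ht.comp_equiv Equiv.ulift
  -- the base
  let P := MvPolynomial σ R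
  let P0 := Localization.AtPrime (primeBelow R O xs)
  obtain ⟨Rh, _, _, _, _, hRh⟩ := Groth.Agent.S0537.result P0
  haveI := hRh.henselian
  haveI := hRh.isSepClosure.separable
  letI : Algebra P B := (MvPolynomial.aeval tσ).toRingHom.toAlgebra
  haveI : IsScalarTower R P B := IsScalarTower.of_algebraMap_eq fun r =>
    (MvPolynomial.aeval_C tσ r).symm
  haveI : Algebra.FiniteType P B := Algebra.FiniteType.of_restrictScalars_finiteType R P B
  letI : Algebra P Rh := ((algebraMap P0 Rh).comp (algebraMap P P0)).toAlgebra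
  haveI : IsScalarTower P P0 Rh := IsScalarTower.of_algebraMap_eq' rfl
  haveI : Algebra.WeaklyEtale P Rh :=
    Groth.L05.HensTensor.weaklyEtale_of_localization_trans P P0 Rh
      (primeBelow R O xs).primeCompl (Groth.Agent.S12237.result P0 Rh)
  letI : Algebra B A := ((algebraMap O A).comp (algebraMap B O)).toAlgebra
  haveI : IsScalarTower B O A := IsScalarTower.of_algebraMap_eq' rfl
  haveI : Algebra.WeaklyEtale B A :=
    Groth.L05.HensTensor.weaklyEtale_of_localization_trans B O A q.primeCompl
      (Groth.Agent.S12237.result O A)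
  letI : Algebra P A := ((algebraMap B A).comp (algebraMap P B)).toAlgebra
  haveI : IsScalarTower P B A := IsScalarTower.of_algebraMap_eq' rfl
  let f0 : P0 →+* A := (algebraMap O A).comp (toLocal R O xs)
  haveI : IsLocalHom f0 := RingHom.isLocalHom_comp _ _
  have hf0 : ∀ p : P, f0 (algebraMap P P0 p) = algebraMap P A p := fun p => by
    change algebraMap O A (toLocal R O xs (algebraMap P P0 p)) =
      algebraMap O A (algebraMap B O (MvPolynomial.aeval tσ p))
    rw [toLocal_algebraMap]
    congr 1
    exact (MvPolynomial.comp_aeval_apply (f := tσ) (IsScalarTower.toAlgHom R B O) p).symm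
  -- residue fields
  letI : Algebra (ResidueField P0) (ResidueField A) := (ResidueField.map f0).toAlgebra
  let τ : ResidueField Rh →ₐ[ResidueField P0] ResidueField A := IsSepClosed.lift
  have hτ : τ.toRingHom.comp (ResidueField.map (algebraMap P0 Rh)) = ResidueField.map f0 := by
    refine RingHom.ext fun z => ?_
    obtain ⟨z, rfl⟩ := residue_surjective z
    exact τ.commutes (residue P0 z)
  obtain ⟨g0, ⟨hg0, hgres⟩, -⟩ := hRh.universal A f0 τ.toRingHom hτ
  let g : Rh →ₐ[P] A :=
    { g0 with commutes' := fun p => (RingHom.congr_fun hg0 (algebraMap P P0 p)).trans (hf0 p) }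
  haveI : IsLocalHom g.toRingHom := ⟨fun r hr => by
    rw [← residue_ne_zero_iff_isUnit] at hr ⊢
    intro h0
    refine hr ?_
    change residue A (g0 r) = 0
    rw [hgres, h0, map_zero]⟩
  have hmap : ResidueField.map g.toRingHom = τ.toRingHom := by
    refine RingHom.ext fun z => ?_
    obtain ⟨z, rfl⟩ := residue_surjective z
    exact hgres z
  have halg : @Algebra.IsAlgebraic (ResidueField Rh) (ResidueField A) _ _
      (ResidueField.map g.toRingHom).toAlgebra := by
    rw [hmap]
    letI := τ.toRingHom.toAlgebra
    haveI : IsScalarTower (ResidueField P0) (ResidueField Rh) (ResidueField A) :=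
      IsScalarTower.of_algebraMap_eq fun z => (τ.commutes z).symm
    letI : Algebra (ResidueField P0) (ResidueField O) :=
      (ResidueField.map (toLocal R O xs)).toAlgebra
    haveI := isAlgebraic_residue R O xs hxs
    haveI : IsScalarTower (ResidueField P0) (ResidueField O) (ResidueField A) :=
      IsScalarTower.of_algebraMap_eq fun z => by
        obtain ⟨z, rfl⟩ := residue_surjective z
        rfl
    haveI := hS.isSepClosure.separable
    haveI : Algebra.IsAlgebraic (ResidueField P0) (ResidueField A) :=
      Algebra.IsAlgebraic.trans (ResidueField P0) (ResidueField O) (ResidueField A)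
    exact Algebra.IsAlgebraic.tower_top (K := ResidueField P0) (ResidueField Rh)
  obtain ⟨hQ, hQ'⟩ := isMaximal_comap_phi (B := B) g halg
  let Q := (maximalIdeal A).comap (phi (B := B) g)
  let T := CommRingCat.of (Rh ⊗[P] B)
  let x' : ↥(Spec T) := (⟨Q, hQ.isPrime⟩ : PrimeSpectrum (Rh ⊗[P] B))
  let f' : Spec T ⟶ Spec (CommRingCat.of Rh) :=
    Spec.map (CommRingCat.ofHom (Algebra.TensorProduct.includeLeftRingHom : Rh →+* Rh ⊗[P] B))
  have hft : LocallyOfFiniteType f' := by
    rw [HasRingHomProperty.Spec_iff (P := @LocallyOfFiniteType)]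
    exact RingHom.finiteType_algebraMap.mpr (inferInstance : Algebra.FiniteType Rh (Rh ⊗[P] B))
  refine ⟨σ, inferInstance, primeBelow R O xs, inferInstance, primeBelow_eq R O xs hxs.1, Rh,
    inferInstance, inferInstance, inferInstance, inferInstance, hRh, Spec T, f', hft, inferInstance,
    x', (PrimeSpectrum.isClosed_singleton_iff_isMaximal _).mpr hQ, PrimeSpectrum.ext hQ', ?_⟩
  letI : Algebra (Rh ⊗[P] B) ((Spec T).presheaf.stalk x') :=
    StructureSheaf.stalkAlgebra (Rh ⊗[P] B) x'
  haveI : IsLocalization.AtPrime ((Spec T).presheaf.stalk x') Q :=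
    StructureSheaf.IsLocalization.to_stalk (Rh ⊗[P] B) x'
  exact isStrictHenselization_toSh (B := B) g ((Spec T).presheaf.stalk x')

/-- The scheme form. -/
theorem exists_model (R : Type u) [CommRing R] [IsLocalRing R] {X : Scheme.{u}}
    (f : X ⟶ Spec (CommRingCat.of R)) [LocallyOfFiniteType f] (x : X)
    (hx : f.base x = ((closedPoint R : PrimeSpectrum R) : ↥(Spec (CommRingCat.of R))))
    (A : Type u) [CommRing A] [IsLocalRing A] [Algebra (X.presheaf.stalk x) A]
    [IsLocalHom (algebraMap (X.presheaf.stalk x) A)]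
    [Hensel.IsStrictHenselization (X.presheaf.stalk x) A] :
    ∃ (σ : Type u) (_ : Finite σ) (p : Ideal (MvPolynomial σ R)) (_ : p.IsPrime)
      (_ : p = (maximalIdeal R).map MvPolynomial.C)
      (Rh : Type u) (_ : CommRing Rh) (_ : IsLocalRing Rh) (_ : Algebra (Localization.AtPrime p) Rh)
      (_ : IsLocalHom (algebraMap (Localization.AtPrime p) Rh))
      (_ : Hensel.IsStrictHenselization (Localization.AtPrime p) Rh)
      (X' : Scheme.{u}) (f' : X' ⟶ Spec (CommRingCat.of Rh)) (_ : LocallyOfFiniteType f')
      (_ : QuasiCompact f') (x' : X') (_ : IsClosed ({x'} : Set X'))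
      (_ : f'.base x' = ((closedPoint Rh : PrimeSpectrum Rh) : ↥(Spec (CommRingCat.of Rh))))
      (_ : Algebra (X'.presheaf.stalk x') A) (_ : IsLocalHom (algebraMap (X'.presheaf.stalk x') A)),
      Hensel.IsStrictHenselization (X'.presheaf.stalk x') A := by
  obtain ⟨U, hU, hxU, -⟩ :=
    exists_isAffineOpen_mem_and_subset (X := X) (x := x) (U := ⊤) (TopologicalSpace.Opens.mem_top x)
  have e : U ≤ f ⁻¹ᵁ ⊤ := le_top
  let B := Γ(X, U)
  let φ := (Scheme.ΓSpecIso (CommRingCat.of R)).inv ≫ f.appLE ⊤ U e
  letI : Algebra R B := φ.hom.toAlgebra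
  haveI : Algebra.FiniteType R B := by
    have h1 : (f.appLE ⊤ U e).hom.FiniteType :=
      LocallyOfFiniteType.finiteType_appLE f (isAffineOpen_top _) hU e
    exact RingHom.finiteType_algebraMap.mp
      (h1.comp (RingHom.FiniteType.of_surjective _
        ((Scheme.ΓSpecIso (CommRingCat.of R)).symm.commRingCatIsoToRingEquiv.surjective)))
  let O := X.presheaf.stalk x
  letI : Algebra B O := (X.presheaf.germ U x hxU).hom.toAlgebra
  haveI := hU.isLocalization_stalk ⟨x, hxU⟩
  letI : Algebra R O := ((algebraMap B O).comp (algebraMap R B)).toAlgebra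
  haveI : IsScalarTower R B O := IsScalarTower.of_algebraMap_eq' rfl
  have hloc : (φ ≫ X.presheaf.germ U x hxU) =
      (Scheme.ΓSpecIso (CommRingCat.of R)).inv ≫
        (Spec (CommRingCat.of R)).presheaf.germ ⊤ (f.base x) trivial ≫ f.stalkMap x := by
    simp only [φ, Category.assoc, Scheme.Hom.germ_stalkMap]
    simp [Scheme.Hom.appLE]
  haveI : IsLocalHom (algebraMap R O) := ⟨fun r hr => by
    change IsUnit ((φ ≫ X.presheaf.germ U x hxU).hom r) at hr
    rw [hloc] at hr
    replace hr : IsUnit ((f.stalkMap x).hom
      (algebraMap R ((Spec.structureSheaf R).presheaf.stalk (f.base x)) r)) := hr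
    have h2 := isUnit_of_map_unit (f.stalkMap x).hom _ hr
    have h3 : r ∉ (f.base x).asIdeal :=
      (IsLocalization.AtPrime.isUnit_to_map_iff
        ((Spec.structureSheaf R).presheaf.stalk (f.base x)) (f.base x).asIdeal r).mp h2
    rw [hx] at h3
    exact notMem_maximalIdeal.mp h3⟩
  exact exists_model_alg R B O (hU.primeIdealOf ⟨x, hxU⟩).asIdeal A

end Groth.Agent.L28.SHClosed
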