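import Groth.Agent.L28.SHClosed.Model
import Groth.Agent.S0538
import Groth.Agent.S0539
import Groth.Agent.S0540
import Groth.Agent.S2748
import Groth.Agent.L27.StrictCover
import Mathlib.RingTheory.DiscreteValuationRing.TFAE
import Mathlib.RingTheory.Polynomial.UniqueFactorization

/-!
# The new base over a field and over a discrete valuation ring
-/

set_option autoImplicit false
set_option linter.style.haveILetI false
universe u

open IsLocalRing

namespace Groth.Agent.L28.SHClosed

variable (R : Type u) [CommRing R] [IsLocalRing R] (σ : Type u)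
  (p : Ideal (MvPolynomial σ R)) [p.IsPrime] (hp : p = (maximalIdeal R).map MvPolynomial.C)
  (Rh : Type u) [CommRing Rh] [IsLocalRing Rh] [Algebra (Localization.AtPrime p) Rh]
  [IsLocalHom (algebraMap (Localization.AtPrime p) Rh)]
  [hRh : Hensel.IsStrictHenselization (Localization.AtPrime p) Rh]

include hp hRh in
theorem maximalIdeal_eq : maximalIdeal Rh = (maximalIdeal R).map
    ((algebraMap (Localization.AtPrime p) Rh).comp
      ((algebraMap (MvPolynomial σ R) (Localization.AtPrime p)).comp MvPolynomial.C)) := by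
  rw [← Groth.Agent.S0538.result (Localization.AtPrime p) Rh,
    ← Localization.AtPrime.map_eq_maximalIdeal, ← Ideal.map_map, ← Ideal.map_map, ← hp]

theorem isField_of_field (k : Type u) [Field k] (σ : Type u)
    (p : Ideal (MvPolynomial σ k)) [p.IsPrime] (hp : p = (maximalIdeal k).map MvPolynomial.C)
    (Rh : Type u) [CommRing Rh] [IsLocalRing Rh] [Algebra (Localization.AtPrime p) Rh]
    [IsLocalHom (algebraMap (Localization.AtPrime p) Rh)]
    [hRh : Hensel.IsStrictHenselization (Localization.AtPrime p) Rh] :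
    ∃ h : IsField Rh, @IsSepClosed Rh h.toField := by
  have hm : maximalIdeal Rh = ⊥ := by
    rw [maximalIdeal_eq k σ p hp Rh, IsLocalRing.maximalIdeal_eq_bot, Ideal.map_bot]
  have hf : IsField Rh := IsLocalRing.isField_iff_maximalIdeal_eq.mpr hm
  refine ⟨hf, ?_⟩
  letI := hf.toField
  haveI := hRh.isSepClosure.sep_closed
  have hinj : Function.Bijective (residue Rh) :=
    ⟨(injective_iff_map_eq_zero _).mpr fun r hr => by
      have := (residue_eq_zero_iff r).mp hr
      rwa [hm, Ideal.mem_bot] at this, residue_surjective⟩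
  exact Groth.L27.StrictCover.isSepClosed_of_ringEquiv (RingEquiv.ofBijective _ hinj).symm

include hp hRh in
theorem isDVR_of_dvr [IsDomain R] [IsDiscreteValuationRing R] [Finite σ] :
    ∃ _ : IsDomain Rh, IsDiscreteValuationRing Rh := by
  let P0 := Localization.AtPrime p
  haveI : IsIntegrallyClosed P0 :=
    isIntegrallyClosed_of_isLocalization (R := MvPolynomial σ R) P0 p.primeCompl
      p.primeCompl_le_nonZeroDivisors
  haveI : IsDomain P0 := IsLocalization.isDomain_localization p.primeCompl_le_nonZeroDivisors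
  haveI : IsDomain Rh := ((Groth.Agent.S2748.result P0 Rh).mpr ⟨inferInstance, inferInstance⟩).1
  haveI : IsNoetherianRing Rh :=
    (Groth.Agent.S0540.result P0 Rh).mp (IsLocalization.isNoetherianRing p.primeCompl P0 inferInstance)
  refine ⟨inferInstance, ?_⟩
  obtain ⟨ϖ, hϖ⟩ := IsDiscreteValuationRing.exists_irreducible R
  have hϖm : maximalIdeal R = Ideal.span {ϖ} := hϖ.maximalIdeal_eq
  let ι0 : R →+* P0 := (algebraMap (MvPolynomial σ R) P0).comp MvPolynomial.C
  have hmax : maximalIdeal Rh = Ideal.span {algebraMap P0 Rh (ι0 ϖ)} := by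
    rw [maximalIdeal_eq R σ p hp Rh, hϖm, Ideal.map_span, Set.image_singleton]
    rfl
  have hne : algebraMap P0 Rh (ι0 ϖ) ≠ 0 := by
    haveI : Module.FaithfullyFlat P0 Rh := Groth.Agent.S0539.result P0 Rh
    intro h
    have h1 : ι0 ϖ = 0 :=
      (injective_iff_map_eq_zero _).mp (FaithfulSMul.algebraMap_injective P0 Rh) _ h
    have h2 := (IsLocalization.injective P0 p.primeCompl_le_nonZeroDivisors)
      (h1.trans (map_zero (algebraMap (MvPolynomial σ R) P0)).symm)
    exact hϖ.ne_zero (MvPolynomial.C_injective σ R (h2.trans (map_zero _).symm))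
  have hnf : ¬IsField Rh := fun hF => by
    rw [IsLocalRing.isField_iff_maximalIdeal_eq, hmax, Ideal.span_singleton_eq_bot] at hF
    exact hne hF
  exact ((IsDiscreteValuationRing.TFAE Rh hnf).out 0 4 rfl rfl).mpr ⟨⟨_, hmax⟩⟩

end Groth.Agent.L28.SHClosed
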