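import Groth.Agent.L05.HensTensor.TensorLocal
import Mathlib.RingTheory.Adjoin.FG
import Mathlib.RingTheory.FiniteType
import Mathlib.FieldTheory.IsSepClosed
import Mathlib.RingTheory.Algebraic.Integral
import Mathlib.RingTheory.AlgebraicIndependent.TranscendenceBasis
import Mathlib.RingTheory.LocalRing.ResidueField.Basic

/-!
# Realising a strict henselization at a closed point

If `A` is strictly henselian, `B → A` is weakly étale, `B` is a finite type `P`-algebra and the residue
field of `A` is algebraic over that of `P` below, then `A` is a strict henselization of a local ring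
of `Rh ⊗ B` at a maximal ideal, `Rh` a strict henselization of the local ring of `P` below.
-/

set_option autoImplicit false
set_option linter.style.haveILetI false
set_option maxHeartbeats 800000
set_option backward.isDefEq.respectTransparency.types false
universe u

open IsLocalRing TensorProduct

namespace Groth.Agent.L28.SHClosed

/-- A field homomorphism-compatible algebraic extension: the range of a ring map to a field which
contains a subfield over which everything is algebraic is a field. -/
theorem ker_isMaximal_of_algebraic {k T M : Type u} [Field k] [CommRing T] [Field M] [Algebra k M]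
    [Algebra.IsAlgebraic k M] (ψ : T →+* M) (h : ∀ c : k, algebraMap k M c ∈ ψ.range) :
    (RingHom.ker ψ).IsMaximal := by
  let S : Subalgebra k M := { ψ.range with algebraMap_mem' := h }
  have : Algebra.IsAlgebraic k S := Algebra.IsAlgebraic.of_injective S.val Subtype.val_injective
  have hS : IsField ψ.range := Subalgebra.isField_of_algebraic S
  exact Ideal.Quotient.maximal_of_isField _
    ((RingHom.quotientKerEquivRange ψ).toMulEquiv.isField hS)

variable {P B A Rh : Type u} [CommRing P] [CommRing B] [Algebra P B] [CommRing Rh] [IsLocalRing Rh]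
  [Algebra P Rh] [CommRing A] [IsLocalRing A] [Algebra B A] [Algebra P A] [IsScalarTower P B A]

/-- The map `Rh ⊗ B → A`. -/
noncomputable def phi (g : Rh →ₐ[P] A) : Rh ⊗[P] B →+* A :=
  (Algebra.TensorProduct.lift g (IsScalarTower.toAlgHom P B A)
    (fun _ _ => Commute.all _ _)).toRingHom

theorem phi_tmul (g : Rh →ₐ[P] A) (r : Rh) (b : B) : phi g (r ⊗ₜ b) = g r * algebraMap B A b :=
  Algebra.TensorProduct.lift_tmul _ _ _ _ _

theorem isMaximal_comap_phi [Algebra.FiniteType P B] (g : Rh →ₐ[P] A) [IsLocalHom g.toRingHom]
    (halg : @Algebra.IsAlgebraic (ResidueField Rh) (ResidueField A) _ _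
      (ResidueField.map g.toRingHom).toAlgebra) :
    ((maximalIdeal A).comap (phi (B := B) g)).IsMaximal ∧
      ((maximalIdeal A).comap (phi (B := B) g)).comap
        (Algebra.TensorProduct.includeLeftRingHom : Rh →+* Rh ⊗[P] B) = maximalIdeal Rh := by
  letI := (ResidueField.map g.toRingHom).toAlgebra
  haveI := halg
  constructor
  · have h1 : (maximalIdeal A).comap (phi (B := B) g) =
        RingHom.ker ((residue A).comp (phi (B := B) g)) := by
      rw [← RingHom.comap_ker, ker_residue]
    rw [h1]
    refine ker_isMaximal_of_algebraic (k := ResidueField Rh) _ fun c => ?_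
    obtain ⟨r, rfl⟩ := residue_surjective c
    refine ⟨r ⊗ₜ 1, ?_⟩
    rw [RingHom.comp_apply, phi_tmul, map_one, mul_one]
    rfl
  · ext r
    rw [Ideal.mem_comap, Ideal.mem_comap, Algebra.TensorProduct.includeLeftRingHom_apply,
      phi_tmul, map_one, mul_one]
    exact ⟨fun h => (mem_maximalIdeal _).mpr fun hu => (mem_maximalIdeal _).mp h (hu.map g.toRingHom),
      fun h => (mem_maximalIdeal _).mpr fun hu =>
        (mem_maximalIdeal _).mp h (isUnit_of_map_unit g.toRingHom r hu)⟩

/-- `A` is a strict henselization of the local ring of `Rh ⊗ B` below its maximal ideal. -/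
theorem isStrictHenselization_toSh [Algebra.WeaklyEtale P Rh] [HenselianLocalRing A]
    [IsSepClosed (ResidueField A)] [Algebra.WeaklyEtale B A] (g : Rh →ₐ[P] A)
    (D : Type u) [CommRing D] [IsLocalRing D] [Algebra (Rh ⊗[P] B) D]
    [IsLocalization.AtPrime D ((maximalIdeal A).comap (phi (B := B) g))] :
    ∃ (_ : Algebra D A) (_ : IsLocalHom (algebraMap D A)), Hensel.IsStrictHenselization D A := by
  have hφ : ∀ b : B, phi g ((1 : Rh) ⊗ₜ[P] b) = algebraMap B A b := fun b => by
    rw [phi_tmul, map_one, one_mul]
  letI := (Groth.L05.HensTensor.toSh (phi (B := B) g) D).toAlgebra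
  haveI : IsLocalHom (algebraMap D A) := Groth.L05.HensTensor.isLocalHom_toSh _ D
  haveI : Algebra.WeaklyEtale D A := Groth.L05.HensTensor.weaklyEtale_toSh _ hφ D
  exact ⟨inferInstance, inferInstance,
    Groth.L05.HensTensor.isStrictHenselization_of_weaklyEtale D A⟩

end Groth.Agent.L28.SHClosed
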