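import Groth.Agent.L28.SHClosed.Alg
import Groth.Agent.S0537
import Groth.Agent.S12237
import Mathlib.RingTheory.MvPolynomial.Basic
import Mathlib.RingTheory.Localization.AtPrime.Basic

/-!
# A base over which a point becomes closed
-/

set_option autoImplicit false
set_option linter.style.haveILetI false
set_option maxHeartbeats 800000
set_option backward.isDefEq.respectTransparency.types false
universe u

open IsLocalRing TensorProduct

namespace Groth.Agent.L28.SHClosed

/-- Finitely many elements of a finite type algebra have images forming a transcendence basis of the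
residue field of a local ring dominating it. -/
theorem exists_transcendenceBasis_lift {K B L : Type u} [Field K] [CommRing B] [Field L]
    [Algebra K L] (π : B →+* L) (s : Set B) (hs : s.Finite)
    (hgen : ∀ b : B, π b ∈ Algebra.adjoin K (π '' s))
    (hfrac : ∀ z : L, ∃ b c : B, π c ≠ 0 ∧ z = π b / π c) :
    ∃ (n : ℕ) (t : Fin n → B), IsTranscendenceBasis K (π ∘ t) := by
  have halg : Algebra.IsAlgebraic (Algebra.adjoin K (π '' s)) L := ⟨fun z => by
    obtain ⟨b, c, -, rfl⟩ := hfrac z
    rw [div_eq_mul_inv]
    exact (isAlgebraic_algebraMap (A := L) (⟨π b, hgen b⟩ : Algebra.adjoin K (π '' s))).mul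
      (isAlgebraic_algebraMap (A := L) (⟨π c, hgen c⟩ : Algebra.adjoin K (π '' s))).inv⟩
  obtain ⟨u, hu, hub⟩ := exists_isTranscendenceBasis_subset (R := K) (π '' s)
  haveI : Finite u := ((hs.image π).subset hu).to_subtype
  obtain ⟨n, ⟨e⟩⟩ := Finite.exists_equiv_fin u
  choose t ht using fun i : Fin n => hu (e.symm i).2
  refine ⟨n, t, ?_⟩
  have : π ∘ t = Subtype.val ∘ e.symm := funext fun i => (ht i).2
  rw [this]
  exact hub.comp_equiv e.symm

variable (R : Type u) [CommRing R] [IsLocalRing R] (O : Type u) [CommRing O] [IsLocalRing O]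
  [Algebra R O] [IsLocalHom (algebraMap R O)] {ι : Type u} (x : ι → O)

/-- The prime of `R[X]` below `O`. -/
noncomputable def primeBelow : Ideal (MvPolynomial ι R) :=
  (maximalIdeal O).comap (MvPolynomial.aeval x).toRingHom

instance : (primeBelow R O x).IsPrime := Ideal.IsPrime.comap _

theorem primeBelow_eq (hx : AlgebraicIndependent (ResidueField R) (residue O ∘ x)) :
    primeBelow R O x = (maximalIdeal R).map MvPolynomial.C := by
  have h : (residue O).comp (MvPolynomial.aeval x).toRingHom =
      (MvPolynomial.aeval (R := ResidueField R) (residue O ∘ x)).toRingHom.comp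
        (MvPolynomial.map (residue R)) := by
    refine MvPolynomial.ringHom_ext (fun r => ?_) (fun i => ?_)
    · simp only [RingHom.comp_apply, AlgHom.toRingHom_eq_coe, RingHom.coe_coe,
        MvPolynomial.map_C, MvPolynomial.aeval_C]
      rfl
    · simp
  rw [primeBelow, ← ker_residue, RingHom.comap_ker, h,
    ← RingHom.comap_ker, (RingHom.injective_iff_ker_eq_bot (MvPolynomial.aeval (R := ResidueField R) (residue O ∘ x)).toRingHom).mp hx, ← RingHom.ker_eq_comap_bot,
    MvPolynomial.ker_map, ker_residue]

/-- The map `R[X]_p → O`. -/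
noncomputable def toLocal : Localization.AtPrime (primeBelow R O x) →+* O :=
  IsLocalization.lift (M := (primeBelow R O x).primeCompl) (g := (MvPolynomial.aeval x).toRingHom)
    fun y => by_contra fun hu => y.2 ((mem_maximalIdeal _).mpr hu)

theorem toLocal_algebraMap (p : MvPolynomial ι R) :
    toLocal R O x (algebraMap _ _ p) = MvPolynomial.aeval x p :=
  IsLocalization.lift_eq _ p

theorem isLocalHom_toLocal : IsLocalHom (toLocal R O x) := by
  refine ⟨fun z hz => ?_⟩
  obtain ⟨⟨a, b⟩, e⟩ := IsLocalization.surj (primeBelow R O x).primeCompl z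
  dsimp only at e
  have hb : IsUnit (algebraMap _ (Localization.AtPrime (primeBelow R O x)) (b : MvPolynomial ι R)) :=
    IsLocalization.map_units _ b
  have ha : IsUnit (MvPolynomial.aeval x a) := by
    rw [← toLocal_algebraMap R O x a, ← e, map_mul]
    exact hz.mul (hb.map _)
  have : IsUnit (algebraMap _ (Localization.AtPrime (primeBelow R O x)) a) :=
    IsLocalization.map_units _ (⟨a, fun h => (mem_maximalIdeal _).mp h ha⟩ :
      (primeBelow R O x).primeCompl)
  rw [← e] at this
  exact isUnit_of_mul_isUnit_left this

instance : IsLocalHom (toLocal R O x) := isLocalHom_toLocal R O x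

omit [IsLocalHom (algebraMap R O)] in
theorem isAlgebraic_residue_of_range {P0 : Type u} [CommRing P0] [IsLocalRing P0]
    [IsLocalHom (algebraMap R O)] (f : P0 →+* O) [IsLocalHom f] (ι0 : R →+* P0)
    (hι : f.comp ι0 = algebraMap R O) (y : ι → P0) (hy : ∀ i, f (y i) = x i)
    (hx : IsTranscendenceBasis (ResidueField R) (residue O ∘ x)) :
    @Algebra.IsAlgebraic (ResidueField P0) (ResidueField O) _ _
      (ResidueField.map f).toAlgebra := by
  haveI : IsLocalHom ι0 := ⟨fun r hr => by
    have := hr.map f
    rw [← RingHom.comp_apply, hι] at this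
    exact isUnit_of_map_unit _ _ this⟩
  letI : Algebra (ResidueField R) (ResidueField P0) := (ResidueField.map ι0).toAlgebra
  letI := (ResidueField.map f).toAlgebra
  haveI : IsScalarTower (ResidueField R) (ResidueField P0) (ResidueField O) :=
    IsScalarTower.of_algebraMap_eq fun c => by
      obtain ⟨r, rfl⟩ := residue_surjective c
      change residue O (algebraMap R O r) = residue O (f (ι0 r))
      rw [← RingHom.comp_apply f, hι]
  let ψ := IsScalarTower.toAlgHom (ResidueField R) (ResidueField P0) (ResidueField O)
  have hle : Algebra.adjoin (ResidueField R) (Set.range (residue O ∘ x)) ≤ ψ.range := by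
    rw [Algebra.adjoin_le_iff]
    rintro _ ⟨i, rfl⟩
    refine ⟨residue P0 (y i), ?_⟩
    change residue O (f (y i)) = residue O (x i)
    rw [hy]
  have hψ : Function.Injective ψ := (algebraMap (ResidueField P0) (ResidueField O)).injective
  let e := AlgEquiv.ofInjective ψ hψ
  let φ : Algebra.adjoin (ResidueField R) (Set.range (residue O ∘ x)) →+* ResidueField P0 :=
    (e.symm.toAlgHom.comp (Subalgebra.inclusion hle)).toRingHom
  have hφ : ∀ w, ψ (φ w) = (w : ResidueField O) := fun w =>
    congrArg Subtype.val (e.apply_symm_apply (Subalgebra.inclusion hle w))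
  haveI := hx.isAlgebraic
  refine ⟨fun z => ?_⟩
  obtain ⟨q, hq0, hq⟩ := Algebra.IsAlgebraic.isAlgebraic
    (R := Algebra.adjoin (ResidueField R) (Set.range (residue O ∘ x))) z
  refine ⟨q.map φ, (Polynomial.map_ne_zero_iff fun a b hab => ?_).mpr hq0, ?_⟩
  · exact Subtype.val_injective (by rw [← hφ a, ← hφ b, hab])
  · rw [Polynomial.aeval_def, Polynomial.eval₂_map]
    rw [Polynomial.aeval_def] at hq
    convert! hq
    exact RingHom.ext hφ

theorem isAlgebraic_residue (hx : IsTranscendenceBasis (ResidueField R) (residue O ∘ x)) :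
    @Algebra.IsAlgebraic (ResidueField (Localization.AtPrime (primeBelow R O x))) (ResidueField O) _ _
      (ResidueField.map (toLocal R O x)).toAlgebra :=
  isAlgebraic_residue_of_range R O x (toLocal R O x)
    ((algebraMap (MvPolynomial ι R) (Localization.AtPrime (primeBelow R O x))).comp MvPolynomial.C)
    (RingHom.ext fun r => (toLocal_algebraMap R O x _).trans (MvPolynomial.aeval_C _ _))
    (fun i => algebraMap _ _ (MvPolynomial.X i))
    (fun i => (toLocal_algebraMap R O x _).trans (MvPolynomial.aeval_X _ _)) hx

end Groth.Agent.L28.SHClosed
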